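import Cfsg.Agent.H577.GLB.Lab
import Cfsg.Agent.H76.GLB.Lower

/-!
# S4536, task 5916 (helper117): `SchP_mem_PGen`, `lower_mem_span`
-/

set_option autoImplicit false
set_option linter.unusedSectionVars false

namespace Cfsg.Agent.H117.GLn

open MvPolynomial Cfsg.Agent.H614 Cfsg.Agent.H577.GLB.Std Cfsg.Agent.H614.GLn.RSt
open Cfsg.Agent.H614.GLn hiding bsz
open Cfsg.Agent.H76.GLB
open Cfsg.Agent.H577.GLB.Real (PGen)

variable {Q : ℤ} {M : ℕ} [NeZero M] {p : ℕ}

theorem Sch_mem_PGen_of_reg {c : ZMod M} (hc : PReg M p c) {m : ℕ} (β : Fin m → ℕ) :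
    Sch Q M c β ∈ PGen Q M p := by
  classical
  unfold Sch
  refine Subalgebra.sum_mem _ fun ν _ => Subalgebra.smul_mem _ (Subalgebra.multiset_prod_mem _ fun x hx => ?_) _
  obtain ⟨j, _, rfl⟩ := Multiset.mem_map.1 hx
  exact Algebra.subset_adjoin ⟨_, c, hc, rfl⟩

theorem Sch_mem_PGen_of_zero {c : ZMod M} {m : ℕ} (β : Fin m → ℕ) (h : bsz β = 0) :
    Sch Q M c β ∈ PGen Q M p := by
  classical
  unfold Sch
  refine Subalgebra.sum_mem _ fun ν _ => Subalgebra.smul_mem _ (Subalgebra.multiset_prod_mem _ fun x hx => ?_) _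
  obtain ⟨j, hj, rfl⟩ := Multiset.mem_map.1 hx
  exfalso
  have h1 := ν.parts_pos hj
  have h2 : j ≤ ν.parts.sum := Multiset.single_le_sum (fun _ _ => Nat.zero_le _) _ hj
  rw [ν.parts_sum] at h2
  unfold bsz at h
  omega

/-- F1a -/
theorem SchP_mem_PGen (_hQ : IsUnit (Q : ZMod M)) {m : ℕ} (t : ZMod M → Fin m → ℕ) (ht : POnly M p t) :
    SchP Q M t ∈ PGen Q M p := by
  classical
  unfold SchP
  refine Subalgebra.prod_mem _ fun c _ => ?_
  by_cases hc : PReg M p c
  · exact Sch_mem_PGen_of_reg hc _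
  · exact Sch_mem_PGen_of_zero _ (ht c hc)

/-- F1b: the derivative of a Schur product over `p'`-labels is a combination of Schur products over `p'`-labels -/
theorem lower_mem_span (hp : p.Prime) (hQ : IsUnit (Q : ZMod M)) (hQp : IsUnit (Q : ZMod p)) {m n : ℕ}
    (_hmn : n ≤ m)
    (t : LabZ Q M m n) (ht : POnly M p t.t) (δ : ZMod M) (hδ : PReg M p δ)
    (hw : 0 < ewt (eD Q M p δ) (t.t δ)) :
    MvPolynomial.pderiv (eD Q M p δ * perZ Q M δ, canon Q M δ) (SchP Q M t.t) ∈ Submodule.span ℂ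
      {x : RS M | ∃ t' : LabZ Q M m (n - eD Q M p δ * perZ Q M δ), POnly M p t'.t ∧ x = SchP Q M t'.t} := by
  classical
  have he := eD_pos (M := M) hp hQp δ
  set e := eD Q M p δ with hedef
  set β := t.t δ with hβdef
  have hβ : Function.Injective β := (t.mono δ).injective
  obtain ⟨j0, hj0, hinj⟩ := exists_bead he hβ (by unfold ewt at hw; omega)
  obtain ⟨σ0, hσ0⟩ := exists_sort hinj
  have hsz : ∀ j, e ≤ β j → Function.Injective (dn β j e) → ∀ σ : Equiv.Perm (Fin m),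
      bsz (dn β j e ∘ σ) + e = bsz β := by
    intro j hj hi σ
    have h1 := sum_dn β j hj
    have h2 := sum_le_of_injective hi
    have h3 : ∑ i, (dn β j e ∘ σ) i = ∑ i, dn β j e i := Equiv.sum_comp σ (dn β j e)
    unfold bsz
    rw [h3]
    omega
  have hsz0 := hsz j0 hj0 hinj σ0
  set c0 := canon Q M δ with hc0
  have hc0r : c0 ∈ repsZ Q M := canon_mem_repsZ hQ δ
  have hper : perZ Q M c0 = perZ Q M δ := (perZ_of_same hQ (sameZ_canon δ)).symm
  set Rest := ∏ c ∈ (repsZ Q M).erase c0, Sch Q M c (t.t c) with hRest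
  have ht0 : SchP Q M t.t = Sch Q M c0 β * Rest := by
    rw [← SchP_repl hQ t.t δ β]
    congr 1
    funext c
    by_cases h : SameZ Q M δ c
    · rw [repl_same _ _ h, orb_same t h]
    · rw [repl_not _ _ h]
  have hDR : DP Q M e c0 Rest = 0 := D_prod_zero _ _ _ fun c hc => by
    rw [Finset.mem_erase] at hc
    exact DP_Sch_ne hQ hc0r hc.2 hc.1 e _
  have hD : DP Q M e c0 (SchP Q M t.t) = ∑ j, (if e ≤ β j then
      SS (fun j => Pw Q M j c0) (bsz β - e) (dn β j e) else 0) * Rest := by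
    rw [ht0, Derivation.leibniz, hDR, smul_zero, zero_add, DP_Sch hQ hc0r he β (by omega), smul_eq_mul, mul_comm,
      Finset.sum_mul]
  have h1 : DP Q M e c0 (SchP Q M t.t) = (e : ℂ) • pderiv (e * perZ Q M δ, c0) (SchP Q M t.t) := by
    rw [DP, Dv_apply, zz_Pw hQ, hper]
  have he0 : (e : ℂ) ≠ 0 := by exact_mod_cast he.ne'
  have h2 : pderiv (e * perZ Q M δ, c0) (SchP Q M t.t) = (e : ℂ)⁻¹ • DP Q M e c0 (SchP Q M t.t) := by
    rw [h1, smul_smul, inv_mul_cancel₀ he0, one_smul]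
  rw [h2, hD]
  refine Submodule.smul_mem _ _ (Submodule.sum_mem _ fun j _ => ?_)
  by_cases hj : e ≤ β j
  · rw [if_pos hj]
    by_cases hi : Function.Injective (dn β j e)
    · obtain ⟨σ, hσ⟩ := exists_sort hi
      have h1 := SS_alt (fun j => Pw Q M j c0) (bsz β - e) σ (dn β j e)
      have h2 : SS (fun j => Pw Q M j c0) (bsz β - e) (dn β j e) =
          ((sg σ : ℤ) : ℂ) • SS (fun j => Pw Q M j c0) (bsz β - e) (dn β j e ∘ σ) := by
        rw [h1, ← Int.cast_smul_eq_zsmul ℂ, smul_smul, ← Int.cast_mul, sg_mul_self, Int.cast_one, one_smul]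
      have h3 : bsz (dn β j e ∘ σ) = bsz β - e := by have := hsz j hj hi σ; omega
      rw [h2, smul_mul_assoc]
      refine Submodule.smul_mem _ _ (Submodule.subset_span ⟨replL hQ t δ (dn β j e ∘ σ) hσ (hsz j hj hi σ), ?_, ?_⟩)
      · intro c hc
        have h1 : ¬ SameZ Q M δ c := fun h => hc (pReg_of_same h hδ)
        show bsz (repl Q t.t δ _ c) = 0
        rw [repl_not _ _ h1]
        exact ht c hc
      · show _ = SchP Q M (repl Q t.t δ (dn β j e ∘ σ))
        rw [SchP_repl hQ, Sch_eq, h3]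
    · rw [(SS_alt (fun j => Pw Q M j c0) (bsz β - e)).eq_zero_of_not_injective two_torsion_alg hi, zero_mul]
      exact Submodule.zero_mem _
  · rw [if_neg hj, zero_mul]
    exact Submodule.zero_mem _

end Cfsg.Agent.H117.GLn
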